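import Mathlib
import Groth.Prelude.Def_W4c5cptfessfintypeLocImm
import Groth.Agent.DomLib.Basic
/-!
Basic properties of localizing morphisms and localizing immersions.
-/
universe u
open AlgebraicGeometry CategoryTheory CategoryTheory.Limits TopologicalSpace
set_option backward.isDefEq.respectTransparency false
set_option linter.style.haveILetI false

namespace Groth.Agent.LocImmB
open LocImm

theorem flat_of_isLocHom {A B : Type u} [CommRing A] [CommRing B] {φ : A →+* B} (h : IsLocHom φ) :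
    φ.Flat := by
  letI := φ.toAlgebra
  obtain ⟨S, hS⟩ := h
  rw [RingHom.Flat]
  exact IsLocalization.flat B S

theorem surjectiveOnStalks_of_isLocHom {A B : Type u} [CommRing A] [CommRing B] {φ : A →+* B}
    (h : IsLocHom φ) : φ.SurjectiveOnStalks := by
  letI := φ.toAlgebra
  obtain ⟨S, hS⟩ := h
  exact RingHom.surjectiveOnStalks_of_isLocalization S B

theorem flat {X Y : Scheme.{u}} {f : X ⟶ Y} (hf : IsLocalizing f) : Flat f := by
  refine (HasRingHomProperty.iff_exists_appLE (P := @Flat) ?_).2 fun x => ?_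
  · exact (RingHom.Flat.stableUnderComposition.stableUnderCompositionWithLocalizationAway
      RingHom.Flat.holdsForLocalizationAway).left
  · obtain ⟨U, V, hxV, e, h⟩ := hf x
    exact ⟨U, V, hxV, e, flat_of_isLocHom h⟩

theorem surjectiveOnStalks {X Y : Scheme.{u}} {f : X ⟶ Y} (hf : IsLocalizing f) :
    SurjectiveOnStalks f := by
  refine (HasRingHomProperty.iff_exists_appLE (P := @SurjectiveOnStalks) ?_).2 fun x => ?_
  · intro R S T _ _ _ _ r hr g hg
    exact hg.comp (RingHom.surjectiveOnStalks_of_isLocalization (.powers r) S)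
  · obtain ⟨U, V, hxV, e, h⟩ := hf x
    exact ⟨U, V, hxV, e, surjectiveOnStalks_of_isLocHom h⟩

theorem isIso_stalkMap {X Y : Scheme.{u}} (f : X ⟶ Y) [Flat f] [SurjectiveOnStalks f] (x : X) :
    IsIso (f.stalkMap x) := by
  rw [ConcreteCategory.isIso_iff_bijective]
  refine ⟨?_, f.stalkMap_surjective x⟩
  letI := (f.stalkMap x).hom.toAlgebra
  haveI : Module.Flat (Y.presheaf.stalk (f x)) (X.presheaf.stalk x) := Flat.stalkMap f x
  haveI : IsLocalHom (algebraMap (Y.presheaf.stalk (f x)) (X.presheaf.stalk x)) :=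
    inferInstanceAs (IsLocalHom (f.stalkMap x).hom)
  haveI : Module.FaithfullyFlat (Y.presheaf.stalk (f x)) (X.presheaf.stalk x) :=
    Module.FaithfullyFlat.of_flat_of_isLocalHom
  have h := Ideal.comap_map_eq_self_of_faithfullyFlat (B := X.presheaf.stalk x)
    (⊥ : Ideal (Y.presheaf.stalk (f x)))
  rw [Ideal.map_bot] at h
  exact (RingHom.injective_iff_ker_eq_bot _).2 h

/-- An injective flat quasi-compact morphism is a topological embedding. -/
theorem isEmbedding {X Y : Scheme.{u}} (f : X ⟶ Y) [Flat f] [QuasiCompact f]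
    (hinj : Function.Injective f) : Topology.IsEmbedding f := by
  refine ⟨(Topology.isInducing_iff _).2 (le_antisymm (continuous_iff_le_induced.1 f.continuous) ?_), hinj⟩
  intro W hW
  rw [isOpen_induced_iff]
  refine ⟨(closure (f '' Wᶜ))ᶜ, isClosed_closure.isOpen_compl, ?_⟩
  rw [Set.preimage_compl, compl_eq_comm]
  refine Set.Subset.antisymm (fun z hz => subset_closure ⟨z, hz, rfl⟩) fun z hz => ?_
  let Z : X.IdealSheafData := Scheme.IdealSheafData.vanishingIdeal ⟨Wᶜ, hW.isClosed_compl⟩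
  have hZ : Set.range Z.subschemeι = Wᶜ := by
    simp [Z, Scheme.IdealSheafData.range_subschemeι, Scheme.IdealSheafData.coe_support_vanishingIdeal]
  have hr : Set.range (Z.subschemeι ≫ f) = f '' Wᶜ := by
    rw [Scheme.Hom.comp_base, TopCat.coe_comp, Set.range_comp, hZ]
  obtain ⟨w, hw⟩ := DomLib.exists_specializes (Z.subschemeι ≫ f) (y := f z) (by rw [hr]; exact hz)
  rw [Scheme.Hom.comp_apply] at hw
  obtain ⟨x', hx', hfx'⟩ := (Flat.generalizingMap (f := f)) hw
  have hmem : Z.subschemeι w ∈ Wᶜ := by rw [← hZ]; exact ⟨w, rfl⟩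
  rw [hinj hfx'] at hx'
  exact hx'.mem_closed hW.isClosed_compl hmem

theorem stableUnderGeneralization_range {X Y : Scheme.{u}} (f : X ⟶ Y) [Flat f] :
    StableUnderGeneralization (Set.range f) := by
  rintro y y' h ⟨x, rfl⟩
  obtain ⟨x', -, rfl⟩ := (Flat.generalizingMap (f := f)) h
  exact ⟨x', rfl⟩

theorem mono {X Y : Scheme.{u}} {f : X ⟶ Y} (hf : IsLocImmersion f) : Mono f := by
  haveI := surjectiveOnStalks hf.1
  exact SurjectiveOnStalks.mono_of_injective hf.2

theorem injective_of_mono {X Y : Scheme.{u}} (f : X ⟶ Y) [Mono f] : Function.Injective f := by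
  haveI : UniversallyInjective f := inferInstance
  exact f.injective

/-- In a noetherian scheme, closed subsets stable under generalization are open. -/
theorem isOpen_of_isClosed_stableUnderGeneralization {Y : Scheme.{u}} [IsNoetherian Y] {C : Set Y}
    (hC : IsClosed C) (hg : StableUnderGeneralization C) : IsOpen C := by
  let O : Y.Opens := ⟨Cᶜ, hC.isOpen_compl⟩
  rw [← isClosed_compl_iff, ← closure_eq_iff_isClosed]
  refine Set.Subset.antisymm (fun y hy => ?_) subset_closure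
  have hy' : y ∈ closure (Set.range O.ι) := by rwa [Scheme.Opens.range_ι]
  obtain ⟨z, hz⟩ := DomLib.exists_specializes O.ι hy'
  intro hyC
  exact z.2 (hg hz hyC)

theorem isOpenImmersion_of_isClosed_range {X Y : Scheme.{u}} [IsNoetherian X] [IsNoetherian Y]
    {f : X ⟶ Y} (hf : IsLocImmersion f) (hc : IsClosed (Set.range f)) : IsOpenImmersion f := by
  haveI := flat hf.1
  haveI := surjectiveOnStalks hf.1
  exact IsOpenImmersion.iff_isIso_stalkMap.2 ⟨⟨isEmbedding f hf.2,
    isOpen_of_isClosed_stableUnderGeneralization hc (stableUnderGeneralization_range f)⟩,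
    isIso_stalkMap f⟩

/-- A localizing immersion looks like a localization on small affine opens of the target. -/
theorem exists_affine_nhd {X Y : Scheme.{u}} [IsNoetherian X] {f : X ⟶ Y}
    (hf : IsLocImmersion f) (x : X) (O : Y.Opens) (hO : f x ∈ O) :
    ∃ V : Y.Opens, f x ∈ V ∧ V ≤ O ∧ IsAffineOpen V ∧ IsAffineOpen (f ⁻¹ᵁ V) ∧
      IsLocHom (f.app V).hom := by
  haveI := flat hf.1
  obtain ⟨U, V, hxV, e, h⟩ := hf.1 x
  obtain ⟨W, hWopen, hW⟩ := (isEmbedding f hf.2).isInducing.isOpen_iff.1 V.1.isOpen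
  obtain ⟨g, hg, hxg⟩ := U.2.exists_basicOpen_le (V := ⟨W, hWopen⟩ ⊓ O)
    ⟨f x, by have hx' : x ∈ f ⁻¹' W := by rw [hW]; exact hxV
             exact hx', hO⟩ (e hxV)
  have heq : f ⁻¹ᵁ Y.basicOpen g = X.basicOpen ((f.appLE U.1 V.1 e).hom g) := by
    rw [Scheme.Hom.appLE, CommRingCat.hom_comp, RingHom.comp_apply, Scheme.basicOpen_res,
      ← Scheme.preimage_basicOpen]
    refine (inf_eq_right.2 ?_).symm
    intro z hz
    change z ∈ (V.1 : Set X)
    rw [← hW]
    exact (hg hz).1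
  have haff : IsAffineOpen (f ⁻¹ᵁ Y.basicOpen g) := heq ▸ V.2.basicOpen _
  refine ⟨Y.basicOpen g, hxg, hg.trans inf_le_right, U.2.basicOpen g, haff, ?_⟩
  haveI := U.2.isLocalization_basicOpen g
  letI := (f.appLE U.1 V.1 e).hom.toAlgebra
  obtain ⟨S, hS⟩ := h
  -- all four rings as algebras over the big affine
  have hle : f ⁻¹ᵁ Y.basicOpen g ≤ V.1 := heq ▸ X.basicOpen_le _
  letI : Algebra Γ(X, V.1) Γ(X, f ⁻¹ᵁ Y.basicOpen g) :=
    (X.presheaf.map (homOfLE hle).op).hom.toAlgebra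
  letI : Algebra Γ(Y, Y.basicOpen g) Γ(X, f ⁻¹ᵁ Y.basicOpen g) := (f.app _).hom.toAlgebra
  letI : Algebra Γ(Y, U.1) Γ(X, f ⁻¹ᵁ Y.basicOpen g) :=
    ((algebraMap Γ(X, V.1) Γ(X, f ⁻¹ᵁ Y.basicOpen g)).comp (algebraMap Γ(Y, U.1) Γ(X, V.1))).toAlgebra
  haveI : IsScalarTower Γ(Y, U.1) Γ(X, V.1) Γ(X, f ⁻¹ᵁ Y.basicOpen g) := .of_algebraMap_eq' rfl
  haveI : IsScalarTower Γ(Y, U.1) Γ(Y, Y.basicOpen g) Γ(X, f ⁻¹ᵁ Y.basicOpen g) := by
    refine .of_algebraMap_eq' ?_
    change ((X.presheaf.map _).hom.comp (f.appLE U.1 V.1 e).hom) =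
      (f.app _).hom.comp (Y.presheaf.map _).hom
    rw [← CommRingCat.hom_comp, ← CommRingCat.hom_comp, Scheme.Hom.app_eq_appLE, Scheme.Hom.map_appLE,
      Scheme.Hom.appLE_map]
  haveI : IsLocalization (.powers (algebraMap Γ(Y, U.1) Γ(X, V.1) g)) Γ(X, f ⁻¹ᵁ Y.basicOpen g) := by
    have h1 := V.2.isLocalization_of_eq_basicOpen ((f.appLE U.1 V.1 e).hom g) (homOfLE hle) heq
    exact h1
  haveI := IsLocalization.localization_localization_isLocalization S
    (.powers (algebraMap Γ(Y, U.1) Γ(X, V.1) g)) Γ(X, f ⁻¹ᵁ Y.basicOpen g)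
  let T := IsLocalization.localizationLocalizationSubmodule S (.powers (algebraMap Γ(Y, U.1) Γ(X, V.1) g))
  have hle' : Submonoid.powers g ≤ T := by
    rw [Submonoid.powers_le, IsLocalization.mem_localizationLocalizationSubmodule]
    exact ⟨⟨_, Submonoid.mem_powers _⟩, 1, by simp⟩
  haveI := IsLocalization.isLocalization_of_submonoid_le Γ(Y, Y.basicOpen g) Γ(X, f ⁻¹ᵁ Y.basicOpen g)
    (.powers g) T hle'
  exact ⟨T.map (algebraMap Γ(Y, U.1) Γ(Y, Y.basicOpen g)), this⟩

end Groth.Agent.LocImmB
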