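import Mathlib
import Groth.Agent.LocImmB.Basic
/-!
Localizing ring maps: composition, cancellation, base change; separated localizing morphisms.
-/
universe u
open AlgebraicGeometry CategoryTheory CategoryTheory.Limits TopologicalSpace
set_option backward.isDefEq.respectTransparency false
set_option linter.style.haveILetI false

namespace Groth.Agent.LocImmB
open LocImm

theorem isLocHom_of_injective {A C D : Type u} [CommRing A] [CommRing C] [CommRing D] (ψ : A →+* C)
    (φ : C →+* D) (hinj : Function.Injective φ) (h : IsLocHom (φ.comp ψ)) : IsLocHom φ := by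
  letI := φ.toAlgebra
  letI := ψ.toAlgebra
  letI := (φ.comp ψ).toAlgebra
  obtain ⟨S, hS⟩ := h
  refine ⟨S.map ψ, { map_units := ?_, surj := ?_, exists_of_eq := ?_ }⟩
  · rintro ⟨_, s, hs, rfl⟩
    exact IsLocalization.map_units D (⟨s, hs⟩ : S)
  · intro d
    obtain ⟨⟨a, s⟩, h⟩ := IsLocalization.surj S d
    exact ⟨⟨ψ a, ⟨ψ s, s, s.2, rfl⟩⟩, h⟩
  · intro a b hab
    exact ⟨1, by rw [hinj hab]⟩

theorem isLocHom_comp_away {A B C : Type u} [CommRing A] [CommRing B] [CommRing C] (φ : A →+* B)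
    (ψ : B →+* C) (b : B) (h : IsLocHom φ)
    (hb : letI := ψ.toAlgebra; IsLocalization.Away b C) : IsLocHom (ψ.comp φ) := by
  letI := φ.toAlgebra
  letI := ψ.toAlgebra
  letI := (ψ.comp φ).toAlgebra
  haveI : IsScalarTower A B C := .of_algebraMap_eq' rfl
  obtain ⟨S, hS⟩ := h
  exact ⟨_, IsLocalization.localization_localization_isLocalization S (.powers b) C⟩

theorem isLocHom_of_isPushout {R A T B : CommRingCat.{u}} {f : R ⟶ A} {g : R ⟶ T} {inl : A ⟶ B}
    {inr : T ⟶ B} (h : IsPushout f g inl inr) (hf : IsLocHom f.hom) : IsLocHom inr.hom := by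
  algebraize [f.hom, g.hom, inl.hom, inr.hom, inl.hom.comp f.hom]
  haveI : IsScalarTower R T B := .of_algebraMap_eq' congr($(h.w).hom)
  haveI : Algebra.IsPushout R A T B := CommRingCat.isPushout_iff_isPushout.mp h
  haveI : Algebra.IsPushout R T A B := Algebra.IsPushout.symm inferInstance
  obtain ⟨S, hS⟩ := hf
  haveI : IsLocalization S A := hS
  exact ⟨_, (Algebra.isLocalization_iff_isPushout (A := A) S (T := T) (B := B)).2 inferInstance⟩

/-- the projection from a pullback of a localizing immersion looks like a localization -/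
theorem isLocImmersion_pullback_snd {X Y Y' : Scheme.{u}} [IsNoetherian X] (f : X ⟶ Y) (g : Y' ⟶ Y)
    (hf : IsLocImmersion f) : IsLocImmersion (pullback.snd f g) := by
  haveI := mono hf
  refine ⟨fun p => ?_, injective_of_mono _⟩
  have hy : f (pullback.fst f g p) = g (pullback.snd f g p) := by
    rw [← Scheme.Hom.comp_apply, ← Scheme.Hom.comp_apply, pullback.condition]
  obtain ⟨V, hxV, -, hV, hfV, hloc⟩ := exists_affine_nhd hf (pullback.fst f g p) ⊤ trivial
  obtain ⟨W, hW, hpW, hWV⟩ := exists_isAffineOpen_mem_and_subset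
    (show pullback.snd f g p ∈ g ⁻¹ᵁ V by change g _ ∈ V; rw [← hy]; exact hxV)
  have H := IsPullback.of_hasPullback f g
  have hUY : pullback.snd f g ⁻¹ᵁ W = pullback.fst f g ⁻¹ᵁ (f ⁻¹ᵁ V) ⊓ pullback.snd f g ⁻¹ᵁ W := by
    refine (inf_eq_right.2 ?_).symm
    intro q hq
    change f (pullback.fst f g q) ∈ V
    rw [← Scheme.Hom.comp_apply, pullback.condition, Scheme.Hom.comp_apply]
    exact hWV hq
  have hlW : W ≤ g ⁻¹ᵁ V := hWV
  have haff : IsAffineOpen (pullback.snd f g ⁻¹ᵁ W) := by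
    haveI : IsAffine _ := hV
    haveI : IsAffine _ := hW
    haveI : IsAffine _ := hfV
    exact .of_isIso (Scheme.Hom.isPullback_resLE H hlW le_rfl hUY).isoPullback.hom
  refine ⟨⟨W, hW⟩, ⟨_, haff⟩, hpW, le_rfl, ?_⟩
  have h1 := (isIso_pushoutSection_iff H hlW le_rfl hUY).1
    (isIso_pushoutSection_of_isAffineOpen H hlW le_rfl hUY hV hW hfV)
  refine isLocHom_of_isPushout h1 ?_
  rw [← Scheme.Hom.app_eq_appLE]; exact hloc

theorem eq_max_of_specializes {X : Scheme.{u}} {η : X} (hη : closure ({η} : Set X) ∈ irreducibleComponents X) :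
    ∀ x' : X, x' ⤳ η → x' = η := fun _ h => DomLib.eq_of_specializes_max hη h

theorem injective_of_isSeparated {X Y : Scheme.{u}} (f : X ⟶ Y) [IsSeparated f] [Flat f]
    [SurjectiveOnStalks f]
    (hinj : Set.InjOn (fun x => f x) {x : X | ∀ x' : X, x' ⤳ x → x' = x}) : Function.Injective f := by
  intro x₁ x₂ hx
  obtain ⟨η, hη, hη₁⟩ := DomLib.exists_max x₁
  obtain ⟨η₂, hη₂, hfη₂⟩ := (Flat.generalizingMap (f := f))
    (show f η ⤳ f x₂ by rw [← hx]; exact hη₁.map f.continuous)
  obtain ⟨η₃, hη₃, h32⟩ := DomLib.exists_max η₂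
  obtain ⟨x', hx', hfx'⟩ := (Flat.generalizingMap (f := f))
    (show f η₃ ⤳ f η by rw [← hfη₂]; exact h32.map f.continuous)
  have hx'η : x' = η := DomLib.eq_of_specializes_max hη hx'
  subst hx'η
  have h3 : η₃ = x' := hinj (eq_max_of_specializes hη₃) (eq_max_of_specializes hη) hfx'.symm
  have hη₂' : x' ⤳ x₂ := h3 ▸ h32.trans hη₂
  -- the two local sections at the common image
  let q := Y.fromSpecStalk (f x₁)
  haveI := isIso_stalkMap f x₁
  haveI := isIso_stalkMap f x₂
  haveI := isIso_stalkMap f x'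
  let a₁ : Spec (Y.presheaf.stalk (f x₁)) ⟶ X := Spec.map (inv (f.stalkMap x₁)) ≫ X.fromSpecStalk x₁
  let c : Y.presheaf.stalk (f x₂) ⟶ Y.presheaf.stalk (f x₁) :=
    Y.presheaf.stalkSpecializes (specializes_of_eq hx)
  let a₂ : Spec (Y.presheaf.stalk (f x₁)) ⟶ X :=
    Spec.map (inv (f.stalkMap x₂) ≫ Y.presheaf.stalkSpecializes (specializes_of_eq hx)) ≫ X.fromSpecStalk x₂
  have ha₁ : a₁ ≫ f = q := by
    rw [Category.assoc, ← Scheme.SpecMap_stalkMap_fromSpecStalk, ← Category.assoc, ← Spec.map_comp,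
      IsIso.hom_inv_id, Spec.map_id, Category.id_comp]
  have ha₂ : a₂ ≫ f = q := by
    rw [Category.assoc, ← Scheme.SpecMap_stalkMap_fromSpecStalk, ← Category.assoc, ← Spec.map_comp,
      IsIso.hom_inv_id_assoc, Scheme.SpecMap_stalkSpecializes_fromSpecStalk]
  have hiso : IsIso (Y.presheaf.stalkSpecializes (specializes_of_eq hx : f x₁ ⤳ f x₂)) := by
    refine ⟨Y.presheaf.stalkSpecializes (specializes_of_eq hx.symm), ?_, ?_⟩
    · rw [TopCat.Presheaf.stalkSpecializes_comp, TopCat.Presheaf.stalkSpecializes_refl]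
    · rw [TopCat.Presheaf.stalkSpecializes_comp, TopCat.Presheaf.stalkSpecializes_refl]
  have hc₁ : a₁ (IsLocalRing.closedPoint _) = x₁ := by
    rw [Scheme.Hom.comp_apply,
      show Spec.map (inv (f.stalkMap x₁)) (IsLocalRing.closedPoint _) = IsLocalRing.closedPoint _ from
        IsLocalRing.comap_closedPoint _]
    exact Scheme.fromSpecStalk_closedPoint
  have hc₂ : a₂ (IsLocalRing.closedPoint _) = x₂ := by
    rw [Scheme.Hom.comp_apply,
      show Spec.map (inv (f.stalkMap x₂) ≫ Y.presheaf.stalkSpecializes (specializes_of_eq hx))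
          (IsLocalRing.closedPoint _) = IsLocalRing.closedPoint _ from IsLocalRing.comap_closedPoint _]
    exact Scheme.fromSpecStalk_closedPoint
  -- the point over `f x'`
  obtain ⟨p, hp⟩ : f x' ∈ Set.range q := by
    rw [Scheme.range_fromSpecStalk]; exact hη₁.map f.continuous
  have hmem : ∀ (x : X) (a : Spec (Y.presheaf.stalk (f x₁)) ⟶ X), a ≫ f = q → x' ⤳ x →
      Set.range a = {z | z ⤳ x} → a p = x' := by
    intro x a ha hsp hr
    obtain ⟨p', hp'⟩ : x' ∈ Set.range a := by rw [hr]; exact hsp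
    have h : q p' = q p := by rw [hp, ← ha, Scheme.Hom.comp_apply, hp']
    rw [← q.isEmbedding.injective h, hp']
  have hr₁ : Set.range a₁ = {z | z ⤳ x₁} := by
    rw [Scheme.Hom.comp_base, TopCat.coe_comp, Set.range_comp,
      Set.range_eq_univ.2 (show Function.Surjective (Spec.map (inv (f.stalkMap x₁))) from
        (Spec.map (inv (f.stalkMap x₁))).homeomorph.surjective), Set.image_univ, Scheme.range_fromSpecStalk]
  have hr₂ : Set.range a₂ = {z | z ⤳ x₂} := by
    haveI := hiso
    rw [Scheme.Hom.comp_base, TopCat.coe_comp, Set.range_comp,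
      Set.range_eq_univ.2 (show Function.Surjective
          (Spec.map (inv (f.stalkMap x₂) ≫ Y.presheaf.stalkSpecializes (specializes_of_eq hx))) from
        (Spec.map _).homeomorph.surjective), Set.image_univ, Scheme.range_fromSpecStalk]
  have e₁ := hmem x₁ a₁ ha₁ hη₁ hr₁
  have e₂ := hmem x₂ a₂ ha₂ hη₂' hr₂
  let r := (Spec (Y.presheaf.stalk (f x₁))).fromSpecResidueField p
  have hfac : ∀ a : Spec (Y.presheaf.stalk (f x₁)) ⟶ X, a p = x' →
      ∃ t, r ≫ a = t ≫ X.fromSpecStalk x' := by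
    intro a ha
    simp only [r, ← Scheme.Hom.SpecMap_residueFieldMap_fromSpecResidueField]
    simp only [Scheme.fromSpecResidueField, ← Category.assoc]
    generalize hm : Spec.map _ ≫ Spec.map _ = m
    clear hm
    revert m
    rw [ha]
    exact fun m => ⟨m, rfl⟩
  obtain ⟨t₁, ht₁⟩ := hfac a₁ e₁
  obtain ⟨t₂, ht₂⟩ := hfac a₂ e₂
  have ht : t₁ = t₂ := by
    have h1 : t₁ ≫ X.fromSpecStalk x' ≫ f = t₂ ≫ X.fromSpecStalk x' ≫ f := by
      rw [← reassoc_of% ht₁, ← reassoc_of% ht₂, ha₁, ha₂]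
    rw [← Scheme.SpecMap_stalkMap_fromSpecStalk, ← Category.assoc, ← Category.assoc, cancel_mono,
      cancel_mono] at h1
    exact h1
  have hra : r ≫ a₁ = r ≫ a₂ := by rw [ht₁, ht₂, ht]
  let A : Over Y := Over.mk q
  let B : Over Y := Over.mk f
  haveI : IsSeparated B.hom := ‹IsSeparated f›
  let b₁ : A ⟶ B := Over.homMk a₁ ha₁
  let b₂ : A ⟶ B := Over.homMk a₂ ha₂
  let E : Over Y := Over.mk (r ≫ q)
  let l : E ⟶ A := Over.homMk r rfl
  let L := equalizer.lift (f := b₁) (g := b₂) l (Over.OverMorphism.ext hra)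
  have hL : L.left ≫ (equalizer.ι b₁ b₂).left = r := by rw [← Over.comp_left, equalizer.lift_ι]; rfl
  have hclosed : IsClosed (Set.range (equalizer.ι b₁ b₂).left) :=
    (equalizer.ι b₁ b₂).left.isClosedEmbedding.isClosed_range
  have hpr : p ∈ Set.range (equalizer.ι b₁ b₂).left := by
    obtain ⟨z⟩ : Nonempty E.left := ⟨IsLocalRing.closedPoint _⟩
    refine ⟨L.left z, ?_⟩
    rw [← Scheme.Hom.comp_apply, hL]
    exact Scheme.fromSpecResidueField_apply _ z
  obtain ⟨e, he⟩ := (IsLocalRing.specializes_closedPoint p).mem_closed hclosed hpr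
  have := congr($(equalizer.condition b₁ b₂).left e)
  simp only [Over.comp_left, Scheme.Hom.comp_apply, b₁, b₂, Over.homMk_left, he] at this
  exact hc₁.symm.trans (this.trans hc₂)

end Groth.Agent.LocImmB
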